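import Cfsg.Agent.Omega.NO3S.OneQ.TRp.Sys

/-!
# NO-3S OneSz, case (TR) (bb OMEGA #20607, section 3): the pure part, after `Sys.no_two`

* `Inj v Φ` : if `i # j`, then `φ ↦ φ (v j)` is injective on `Φ i` (no type 2);
* `Sys.prop` : `Φ i` is contained in `F φ`; `Sys.smul_mem` : `Φ i` is an `F`-line (3.1);
* `Sys.triple` : `a(v k) b(v l) c(v m) = a(v m) b(v k) c(v l)` for pairwise hyperbolic `l`, `m`, `k` (3.3);
* `Sys.end_lemma`, `Sys.end_sq` : `g` fixes `v o`, `f ∈ Φ o` and `g² = 1 + σ f ⊗ v o` : `σ = 0` (3.5);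
* `Lft`, `Sys.delta` : `Θ w = δ(f(π w)) f` (3.2).
-/

set_option autoImplicit false
set_option linter.unusedSectionVars false

namespace Cfsg.Agent.Omega.NO3S.OneQ.TRp

open Module

variable {F M ι : Type*} [Field F] [AddCommGroup M] [Module F M] {v : ι → M} {Φ : ι → AddSubgroup (Dual F M)}

/-- no type 2 -/
def Inj (v : ι → M) (Φ : ι → AddSubgroup (Dual F M)) : Prop :=
  ∀ {i j : ι}, Hyp v Φ i j → ∀ φ ∈ Φ i, φ (v j) = 0 → φ = 0

theorem apply_eq_of_not {i j : ι} (h : ¬ Hyp v Φ i j) {φ : Dual F M} (hφ : φ ∈ Φ i) : φ (v j) = 0 := by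
  by_contra h1
  exact h ⟨φ, hφ, h1⟩

theorem hyp_of {i j : ι} {φ : Dual F M} (hφ : φ ∈ Φ i) (h : φ (v j) ≠ 0) : Hyp v Φ i j := ⟨φ, hφ, h⟩

theorem Inj.not_hyp (hI : Inj v Φ) {i j : ι} {φ : Dual F M} (hφ : φ ∈ Φ i) (h0 : φ ≠ 0) (h : φ (v j) = 0) :
    ¬ Hyp v Φ i j := fun h1 => h0 (hI h1 φ hφ h)

theorem Inj.ne (hI : Inj v Φ) {i j : ι} {φ : Dual F M} (hφ : φ ∈ Φ i) (h0 : φ ≠ 0) (h : Hyp v Φ i j) : φ (v j) ≠ 0 :=
  fun h1 => h0 (hI h φ hφ h1)

namespace Sys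

variable (S : Sys F v Φ) [Finite F] [Finite M] [CharP F 2] (hI : Inj v Φ)
include S hI

omit [CharP F 2] in
/-- `φ ↦ φ (v j)` is bijective -/
theorem surj {i j : ι} (h : Hyp v Φ i j) (c : F) : ∃ φ ∈ Φ i, φ (v j) = c := by
  have : Finite (Dual F M) := DFunLike.finite _
  let f : Φ i → F := fun φ => (φ : Dual F M) (v j)
  have hf : Function.Injective f := by
    intro a b hab
    have h1 : ((a : Dual F M) - b) (v j) = 0 := by
      rw [LinearMap.sub_apply, sub_eq_zero]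
      exact hab
    have h2 := hI h _ (sub_mem a.2 b.2) h1
    exact Subtype.ext (sub_eq_zero.1 h2)
  have hc : Nat.card (Φ i) = Nat.card F := le_antisymm (Nat.card_le_card_of_injective f hf) (S.big i)
  obtain ⟨φ, hφ⟩ := ((Nat.bijective_iff_injective_and_card f).2 ⟨hf, hc⟩).2 c
  exact ⟨φ, φ.2, hφ⟩

/-- the vector `v j + c v k` for `j # k` -/
theorem exists_add {j k : ι} (h : Hyp v Φ k j) (c : F) : ∃ ψ ∈ Φ k, ψ (v j) = c ∧
    ∃ p, v p = v j + c • v k ∧ ∀ φ, φ ∈ Φ p ↔ φ + φ (v k) • ψ ∈ Φ j := by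
  obtain ⟨ψ, hψ, hc⟩ := S.surj hI h c
  obtain ⟨p, hp, hp'⟩ := S.act hψ j
  exact ⟨ψ, hψ, hc, p, by rw [hp, hc], hp'⟩

/-- `k # j'`, `v j' = v j + v i`, if `k # i`, `k _|_ j` -/
theorem link {i j k : ι} (hij : Hyp v Φ i j) (hik : Hyp v Φ i k) (hkj : ¬ Hyp v Φ k j) :
    ∃ φ0 ∈ Φ i, φ0 (v j) = 1 ∧ ∃ j', v j' = v j + v i ∧ (∀ φ, φ ∈ Φ j' ↔ φ + φ (v i) • φ0 ∈ Φ j) ∧ Hyp v Φ k j' := by
  obtain ⟨φ0, h0, h1, j', h2, h3⟩ := S.exists_add hI hij 1
  rw [one_smul] at h2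
  refine ⟨φ0, h0, h1, j', h2, h3, ?_⟩
  obtain ⟨χ, hχ, hne⟩ := S.symm hik
  refine hyp_of hχ ?_
  rw [h2, map_add, apply_eq_of_not hkj hχ, zero_add]
  exact hne

/-- #20607 (3.1), values -/
theorem prop_aux {i : ι} {φ φ' : Dual F M} (hφ : φ ∈ Φ i) (hφ' : φ' ∈ Φ i) {j k : ι} (hj : φ (v j) ≠ 0)
    (hk : φ (v k) ≠ 0) : φ' (v j) * φ (v k) = φ' (v k) * φ (v j) := by
  have h0 : φ ≠ 0 := by
    rintro rfl
    exact hj rfl
  have key : ∀ j, φ (v j) ≠ 0 → Hyp v Φ k j → φ' (v j) * φ (v k) = φ' (v k) * φ (v j) := by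
    intro j hj hkj
    obtain ⟨ψ, hψ, hc, p, hp, -⟩ := S.exists_add hI hkj (φ (v j) / φ (v k))
    have h1 : φ (v p) = 0 := by
      rw [hp, map_add, map_smul, smul_eq_mul, div_mul_cancel₀ _ hk]
      exact CharTwo.add_self_eq_zero _
    have h2 := apply_eq_of_not (hI.not_hyp hφ h0 h1) hφ'
    rw [hp, map_add, map_smul, smul_eq_mul, CharTwo.add_eq_zero] at h2
    rw [h2]
    field_simp
  by_cases hkj : Hyp v Φ k j
  · exact key j hj hkj
  · obtain ⟨φ0, hφ0, h1, j', h2, -, h4⟩ := S.link hI (hyp_of hφ hj) (hyp_of hφ hk) hkj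
    have e1 : φ (v j') = φ (v j) := by rw [h2, map_add, S.self hφ, add_zero]
    have e2 : φ' (v j') = φ' (v j) := by rw [h2, map_add, S.self hφ', add_zero]
    have h5 := key j' (by rw [e1]; exact hj) h4
    rwa [e1, e2] at h5

/-- #20607 (3.1) : `Φ i ≤ F φ` -/
theorem prop {i : ι} {φ φ' : Dual F M} (hφ : φ ∈ Φ i) (h0 : φ ≠ 0) (hφ' : φ' ∈ Φ i) : ∃ s : F, φ' = s • φ := by
  obtain ⟨j, hj⟩ := S.exists_hyp h0
  refine ⟨φ' (v j) / φ (v j), ?_⟩
  rw [← sub_eq_zero]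
  apply S.span
  intro k
  rw [LinearMap.sub_apply, LinearMap.smul_apply, smul_eq_mul, sub_eq_zero]
  by_cases hk : φ (v k) = 0
  · rw [hk, mul_zero, apply_eq_of_not (hI.not_hyp hφ h0 hk) hφ']
  · have h1 := S.prop_aux hI hφ hφ' hj hk
    rw [div_mul_eq_mul_div, h1, mul_div_cancel_right₀ _ hj]

/-- `Φ i` is an `F`-line -/
theorem smul_mem {i : ι} {φ : Dual F M} (hφ : φ ∈ Φ i) (c : F) : c • φ ∈ Φ i := by
  by_cases h0 : φ = 0
  · rw [h0, smul_zero]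
    exact zero_mem _
  obtain ⟨j, hj⟩ := S.exists_hyp h0
  obtain ⟨φ', hφ', h1⟩ := S.surj hI (hyp_of hφ hj) (c * φ (v j))
  obtain ⟨s, rfl⟩ := S.prop hI hφ h0 hφ'
  rw [LinearMap.smul_apply, smul_eq_mul] at h1
  rw [← mul_right_cancel₀ hj h1]
  exact hφ'

theorem mem_iff {i : ι} {φ : Dual F M} (hφ : φ ∈ Φ i) (h0 : φ ≠ 0) (χ : Dual F M) : χ ∈ Φ i ↔ ∃ s : F, χ = s • φ := by
  constructor
  · exact S.prop hI hφ h0
  · rintro ⟨s, rfl⟩
    exact S.smul_mem hI hφ s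

/-- #20607 (3.3) : the triple relation -/
theorem triple {l m k : ι} {a b c : Dual F M} (ha : a ∈ Φ l) (hb : b ∈ Φ m) (hc : c ∈ Φ k) (hc0 : c ≠ 0)
    (hml : Hyp v Φ m l) (hkm : Hyp v Φ k m) :
    a (v k) * b (v l) * c (v m) = a (v m) * b (v k) * c (v l) := by
  by_cases hb0 : b = 0
  · rw [hb0]
    simp
  have h1 : b (v l) ≠ 0 := hI.ne hb hb0 hml
  have h2 : c (v m) ≠ 0 := hI.ne hc hc0 hkm
  set t := c (v l) / c (v m) with ht
  set ψ : Dual F M := (t / b (v l)) • b with hψ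
  have hψm : ψ ∈ Φ m := S.smul_mem hI hb _
  have hψl : ψ (v l) = t := by rw [hψ, LinearMap.smul_apply, smul_eq_mul, div_mul_cancel₀ _ h1]
  obtain ⟨p, hp, hp'⟩ := S.act hψm l
  have h3 : c (v p) = 0 := by
    rw [hp, hψl, map_add, map_smul, smul_eq_mul, ht, div_mul_cancel₀ _ h2]
    exact CharTwo.add_self_eq_zero _
  have h4 : ¬ Hyp v Φ p k := fun h => hI.not_hyp hc hc0 h3 (S.symm h)
  have h5 : a + a (v m) • ψ ∈ Φ p := by
    rw [hp', LinearMap.add_apply, LinearMap.smul_apply, S.self hψm, smul_zero, add_zero, add_assoc, add_self_dual,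
      add_zero]
    exact ha
  have h6 := apply_eq_of_not h4 h5
  rw [LinearMap.add_apply, LinearMap.smul_apply, CharTwo.add_eq_zero, hψ, LinearMap.smul_apply, smul_eq_mul,
    smul_eq_mul] at h6
  rw [h6, ht]
  field_simp

/-- #20607 (3.5), without the form: `f*(g v_m) = f*(g⁻¹ v_m)` -/
theorem end_lemma {o m k : ι} {f fs : Dual F M} (hf : f ∈ Φ o) (hfm : f (v m) = 1) (hfs : fs ∈ Φ m)
    (hfo : fs (v o) = 1) (g : M ≃ₗ[F] M) (hgo : g (v o) = v o) (hgf : ∀ w, f (g w) = f w) (hk : v k = g (v m))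
    (hk' : fs ∘ₗ (g.symm : M →ₗ[F] M) ∈ Φ k) : fs (g (v m)) = fs (g.symm (v m)) := by
  have h2 : fs ∘ₗ (g.symm : M →ₗ[F] M) ≠ 0 := by
    intro h
    have h3 := LinearMap.congr_fun h (v o)
    rw [LinearMap.comp_apply, LinearEquiv.coe_coe, LinearMap.zero_apply] at h3
    have h4 : g.symm (v o) = v o := by rw [LinearEquiv.symm_apply_eq, hgo]
    rw [h4, hfo] at h3
    exact one_ne_zero h3
  have h4 : g.symm (v o) = v o := by rw [LinearEquiv.symm_apply_eq, hgo]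
  by_cases hkm : Hyp v Φ k m
  · have hml : Hyp v Φ m o := hyp_of hfs (by rw [hfo]; exact one_ne_zero)
    have h5 := S.triple hI hf hfs hk' h2 hml hkm
    rw [LinearMap.comp_apply, LinearMap.comp_apply, LinearEquiv.coe_coe, h4, hfo, hfm, hk, hgf, hfm, one_mul, one_mul,
      one_mul, mul_one] at h5
    exact h5.symm
  · have h5 := apply_eq_of_not hkm hk'
    rw [LinearMap.comp_apply, LinearEquiv.coe_coe] at h5
    have h6 := apply_eq_of_not (fun h => hkm (S.symm h)) hfs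
    rw [hk] at h6
    rw [h5, h6]

/-- #20607 (3.5) : squares -/
theorem end_sq {o m k : ι} {f fs : Dual F M} (hf : f ∈ Φ o) (hfm : f (v m) = 1) (hfs : fs ∈ Φ m)
    (hfo : fs (v o) = 1) (g : M ≃ₗ[F] M) (hgo : g (v o) = v o) (hgf : ∀ w, f (g w) = f w) (hk : v k = g (v m))
    (hk' : fs ∘ₗ (g.symm : M →ₗ[F] M) ∈ Φ k) {s : F} (hs : ∀ w, g (g w) = w + (s * f w) • v o) : s = 0 := by
  have h1 := S.end_lemma hI hf hfm hfs hfo g hgo hgf hk hk'
  have h2 := hs (g.symm (v m))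
  rw [LinearEquiv.apply_symm_apply] at h2
  have h3 : f (g.symm (v m)) = 1 := by
    have h4 := hgf (g.symm (v m))
    rw [LinearEquiv.apply_symm_apply] at h4
    rw [← h4, hfm]
  rw [h3, mul_one] at h2
  rw [h2, map_add, map_smul, hfo, smul_eq_mul, mul_one] at h1
  exact add_eq_left.1 h1

end Sys

/-- the lifts of the vectors to `W_x` -/
structure Lft (F : Type*) {M ι W : Type*} [Field F] [AddCommGroup M] [Module F M] [AddCommGroup W] (v : ι → M)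
    (Φ : ι → AddSubgroup (Dual F M)) (o : ι) (π : W →+ M) (Θ : W →+ Dual F M) (ℓ : ι → F → W) : Prop where
  pi_surj : Function.Surjective π
  Θ_mem : ∀ w, Θ w ∈ Φ o
  Θ_surj : ∀ φ ∈ Φ o, ∃ w, Θ w = φ
  ℓ_pi : ∀ j c, π (ℓ j c) = c • v j
  ℓ_add : ∀ j c c', Θ (ℓ j (c + c')) = Θ (ℓ j c) + Θ (ℓ j c')
  inv : ∀ {j : ι} {ψ : Dual F M}, ψ ∈ Φ j → ψ (v o) = 0 → ∀ w, Θ (ℓ j (ψ (π w))) = Θ w (v j) • ψ
  act : ∀ {j : ι} {ψ : Dual F M}, ψ ∈ Φ j → ∀ i, ∃ i', v i' = v i + ψ (v i) • v j ∧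
    (∀ φ, φ ∈ Φ i' ↔ φ + φ (v j) • ψ ∈ Φ i) ∧ ∀ c, Θ (ℓ i' c) = Θ (ℓ i c) + Θ (ℓ j (c * ψ (v i)))
  gen : ∀ w, w ∈ AddSubgroup.closure ({x | ∃ j c, x = ℓ j c} ∪ {x | π x = 0 ∧ Θ x = 0})

section

variable [Finite F] [Finite M] [CharP F 2] {W : Type*} [AddCommGroup W] {o : ι} {π : W →+ M} {Θ : W →+ Dual F M}
  {ℓ : ι → F → W}

namespace Lft

variable (S : Sys F v Φ) (hI : Inj v Φ) (L : Lft F v Φ o π Θ ℓ)
include S hI L

omit hI [CharP F 2] in
theorem zero_of {j : ι} (h : ¬ Hyp v Φ o j) (c : F) : Θ (ℓ j c) = 0 := by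
  obtain ⟨ψ, hψ, h0⟩ := S.exists_ne j
  have h1 : ψ (v o) = 0 := apply_eq_of_not (fun h' => h (S.symm h')) hψ
  obtain ⟨m1, hm1⟩ : ∃ m, ψ m ≠ 0 := by
    by_contra hcon
    push Not at hcon
    exact h0 (LinearMap.ext hcon)
  obtain ⟨w, hw⟩ := L.pi_surj ((c / ψ m1) • m1)
  have h2 := L.inv hψ h1 w
  rw [hw, map_smul, smul_eq_mul, div_mul_cancel₀ _ hm1, apply_eq_of_not h (L.Θ_mem w), zero_smul] at h2
  exact h2

theorem same {f : Dual F M} (hf : f ∈ Φ o) {j k : ι} (hj : f (v j) ≠ 0) (hk : f (v k) ≠ 0) (t : F) :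
    Θ (ℓ j (t / f (v j))) = Θ (ℓ k (t / f (v k))) := by
  have h0 : f ≠ 0 := by
    rintro rfl
    exact hj rfl
  have hu : ∀ {a b : Dual F M}, a + b = 0 → a = b := fun {a b} h => by
    rw [add_eq_zero_iff_eq_neg] at h
    rw [h, neg_eq_iff_add_eq_zero, add_self_dual]
  have key : ∀ j, f (v j) ≠ 0 → Hyp v Φ k j → Θ (ℓ j (t / f (v j))) = Θ (ℓ k (t / f (v k))) := by
    intro j hj hkj
    obtain ⟨ψ, hψ, hc⟩ := S.surj hI hkj (f (v j) / f (v k))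
    obtain ⟨p, hp, -, hp'⟩ := L.act hψ j
    rw [hc] at hp hp'
    have h1 : f (v p) = 0 := by
      rw [hp, map_add, map_smul, smul_eq_mul, div_mul_cancel₀ _ hk]
      exact CharTwo.add_self_eq_zero _
    have h2 := zero_of S L (hI.not_hyp hf h0 h1) (t / f (v j))
    rw [hp'] at h2
    rw [hu h2]
    congr 2
    field_simp
  by_cases hkj : Hyp v Φ k j
  · exact key j hj hkj
  · obtain ⟨φ0, hφ0, h1⟩ := S.surj hI (hyp_of hf hj) 1
    obtain ⟨j', h2, -, h3⟩ := L.act hφ0 j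
    rw [h1, one_smul] at h2
    have h4 : f (v j') = f (v j) := by rw [h2, map_add, S.self hf, add_zero]
    have h5 : Hyp v Φ k j' := by
      obtain ⟨χ, hχ, hne⟩ := S.symm (hyp_of hf hk)
      refine hyp_of hχ ?_
      rw [h2, map_add, apply_eq_of_not hkj hχ, zero_add]
      exact hne
    have h6 := key j' (by rw [h4]; exact hj) h5
    rw [h3, h4, zero_of S L (S.not_self o), add_zero] at h6
    exact h6

/-- #20607 (3.2) : `Θ w = δ(f(π w)) f` -/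
theorem delta {f : Dual F M} (hf : f ∈ Φ o) (h0 : f ≠ 0) :
    ∃ δ : F ≃+ F, ∀ w, Θ w = δ (f (π w)) • f := by
  obtain ⟨k, hk⟩ := S.exists_hyp h0
  have h1 : ∀ t, ∃ s : F, Θ (ℓ k (t / f (v k))) = s • f := fun t => S.prop hI hf h0 (L.Θ_mem _)
  choose d hd using h1
  have hsc : ∀ {a b : F}, a • f = b • f → a = b := fun {a b} h1 => smul_left_injective F h0 h1
  have hadd : ∀ a b, d (a + b) = d a + d b := by
    intro a b
    apply hsc
    rw [add_smul, ← hd, ← hd, ← hd, add_div, L.ℓ_add]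
  let δ : F →+ F := AddMonoidHom.mk' d hadd
  have key : ∀ w, Θ w = δ (f (π w)) • f := by
    intro w
    refine AddSubgroup.closure_induction (p := fun w _ => Θ w = δ (f (π w)) • f) ?_ ?_ ?_ ?_ (L.gen w)
    · rintro _ (⟨j, c, rfl⟩ | ⟨hx, hx'⟩)
      · rw [L.ℓ_pi, map_smul, smul_eq_mul]
        by_cases hj : f (v j) = 0
        · rw [hj, mul_zero, map_zero, zero_smul, zero_of S L (hI.not_hyp hf h0 hj)]
        · have h2 := same S hI L hf hj hk (c * f (v j))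
          rw [mul_div_cancel_right₀ _ hj] at h2
          rw [h2, hd]
          rfl
      · rw [hx, hx', map_zero, map_zero, zero_smul]
    · rw [map_zero, map_zero, map_zero, map_zero, zero_smul]
    · intro x y _ _ hx hy
      rw [map_add, map_add, map_add, map_add, add_smul, hx, hy]
    · intro x _ hx
      rw [map_neg, map_neg, map_neg, hx, map_neg]
      exact (neg_smul _ _).symm
  have hsurj : Function.Surjective δ := by
    intro c
    obtain ⟨w, hw⟩ := L.Θ_surj _ (S.smul_mem hI hf c)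
    refine ⟨f (π w), ?_⟩
    apply hsc
    rw [← key, hw]
  exact ⟨AddEquiv.ofBijective δ ⟨Finite.injective_iff_surjective.2 hsurj, hsurj⟩, key⟩

end Lft

end

end Cfsg.Agent.Omega.NO3S.OneQ.TRp
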