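import Mathlib

/-!
# NO-3S OneSz, `q ≥ 4`, `n = 1`, case (TR) (bb OMEGA #20607): the pure part

Index set `ι` = the lines on `x` (`ι = C_G(x)` in the application), `v i` = a vector of the line `i`,
`Φ i` = the group of functionals `φ` such that `1 + φ ⊗ v i` is induced by `A_i`.

* `Sys F v Φ` : the axioms; `Hyp v Φ i j` : `Φ i` moves `v j`;
* `Sys.symm` : `Hyp` is symmetric (#20607 (1.1));
* `Sys.no_two` : no pair of type 2 (a nonzero element of `Φ j` killing `v o`, `o # j`), from the torus.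
-/

set_option autoImplicit false

namespace Cfsg.Agent.Omega.NO3S.OneQ.TRp

open Module

variable {F M ι : Type*} [Field F] [AddCommGroup M] [Module F M]

/-- the pure system -/
structure Sys (F : Type*) {M ι : Type*} [Field F] [AddCommGroup M] [Module F M] (v : ι → M)
    (Φ : ι → AddSubgroup (Dual F M)) : Prop where
  self : ∀ {i : ι} {φ : Dual F M}, φ ∈ Φ i → φ (v i) = 0
  norm : ∀ {i j : ι} {φ ψ : Dual F M}, ψ ∈ Φ j → ψ (v i) = 0 → φ ∈ Φ i → φ (v j) • ψ ∈ Φ i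
  act : ∀ {j : ι} {ψ : Dual F M}, ψ ∈ Φ j → ∀ i, ∃ i', v i' = v i + ψ (v i) • v j ∧
    ∀ φ, φ ∈ Φ i' ↔ φ + φ (v j) • ψ ∈ Φ i
  card : ∀ i j, Nat.card (Φ i) = Nat.card (Φ j)
  big : ∀ i, Nat.card F ≤ Nat.card (Φ i)
  span : ∀ φ : Dual F M, (∀ i, φ (v i) = 0) → φ = 0

/-- `i # j` -/
def Hyp (v : ι → M) (Φ : ι → AddSubgroup (Dual F M)) (i j : ι) : Prop := ∃ φ ∈ Φ i, φ (v j) ≠ 0

variable {v : ι → M} {Φ : ι → AddSubgroup (Dual F M)}

theorem add_self_dual [CharP F 2] (φ : Dual F M) : φ + φ = 0 := by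
  ext x
  exact CharTwo.add_self_eq_zero _

theorem add_self_mod [CharP F 2] (x : M) : x + x = 0 := by
  rw [← two_smul F x, CharTwo.two_eq_zero, zero_smul]

namespace Sys

variable (S : Sys F v Φ)
include S

/-- #20607 (1.1) -/
theorem symm [Finite F] [Finite M] {i j : ι} (h : Hyp v Φ i j) : Hyp v Φ j i := by
  have : Finite (Dual F M) := DFunLike.finite _
  by_contra hn
  obtain ⟨φ, hφ, hj⟩ := h
  have hn' : ∀ ψ ∈ Φ j, ψ (v i) = 0 := fun ψ hψ => by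
    by_contra h1
    exact hn ⟨ψ, hψ, h1⟩
  let f : Φ j → Φ i := fun ψ => ⟨φ (v j) • (ψ : Dual F M), S.norm ψ.2 (hn' _ ψ.2) hφ⟩
  have hf : Function.Injective f := by
    intro a b hab
    have h1 : φ (v j) • (a : Dual F M) = φ (v j) • (b : Dual F M) := congrArg Subtype.val hab
    exact Subtype.ext (smul_right_injective _ hj h1)
  have hb : Function.Bijective f := (Nat.bijective_iff_injective_and_card f).2 ⟨hf, S.card j i⟩
  obtain ⟨ψ, hψ⟩ := hb.2 ⟨φ, hφ⟩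
  have h1 : φ (v j) • (ψ : Dual F M) = φ := congrArg Subtype.val hψ
  apply hj
  rw [← h1, LinearMap.smul_apply, S.self ψ.2, smul_zero]

theorem not_self (i : ι) : ¬ Hyp v Φ i i := by
  rintro ⟨φ, hφ, h⟩
  exact h (S.self hφ)

/-- a nonzero functional of `Φ i` moves some vector -/
theorem exists_hyp {φ : Dual F M} (hne : φ ≠ 0) : ∃ j, φ (v j) ≠ 0 := by
  by_contra hcon
  push Not at hcon
  exact hne (S.span φ hcon)

theorem exists_ne [Finite F] [Finite M] (i : ι) : ∃ φ ∈ Φ i, φ ≠ 0 := by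
  have : Finite (Dual F M) := DFunLike.finite _
  by_contra hcon
  push Not at hcon
  have h1 : Nat.card (Φ i) = 1 := by
    rw [Nat.card_eq_one_iff_unique]
    refine ⟨⟨fun a b => Subtype.ext ?_⟩, ⟨0⟩⟩
    rw [hcon _ a.2, hcon _ b.2]
  have h2 := S.big i
  have h3 : 1 < Nat.card F := Finite.one_lt_card
  omega

end Sys

/-- the data at the base line `o`: `Θ : W_x → Φ o`, `γ j c = Θ(lift of c v_j)`, `r`, `T` = one torus element -/
structure Tw (F : Type*) {M ι W : Type*} [Field F] [AddCommGroup M] [Module F M] [AddCommGroup W] (v : ι → M)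
    (Φ : ι → AddSubgroup (Dual F M)) (o : ι) (π : W →+ M) (Θ : W →+ Dual F M) (γ : ι → F → Dual F M) (r : F)
    (T : M →ₗ[F] M) : Prop where
  pi_surj : Function.Surjective π
  Θ_mem : ∀ w, Θ w ∈ Φ o
  Θ_surj : ∀ φ ∈ Φ o, ∃ w, Θ w = φ
  γ_add : ∀ j c c', γ j (c + c') = γ j c + γ j c'
  inv : ∀ {j : ι} {ψ : Dual F M}, ψ ∈ Φ j → ψ (v o) = 0 → ∀ w, γ j (ψ (π w)) = Θ w (v j) • ψ
  r_ne : r ≠ 0
  r_ne_one : r ≠ 1
  T_surj : Function.Surjective T
  tor : ∀ {φ : Dual F M}, φ ∈ Φ o → r • φ ∘ₗ T ∈ Φ o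
  tor_b : ∀ {j : ι} {ψ φ : Dual F M}, ψ ∈ Φ j → ψ (v o) = 0 → φ ∈ Φ o → ∀ m, ψ m * φ (T (v j)) = ψ (T m) * φ (v j)
  tor_γ : ∀ {j : ι} {ψ : Dual F M}, ψ ∈ Φ j → ψ (v o) = 0 → ∀ m, γ j (ψ (T m)) = r • (γ j (ψ m)) ∘ₗ T

/-- **no type 2** -/
theorem Sys.no_two (S : Sys F v Φ) {W : Type*} [AddCommGroup W] {o : ι} {π : W →+ M} {Θ : W →+ Dual F M}
    {γ : ι → F → Dual F M} {r : F} {T : M →ₗ[F] M} (D : Tw F v Φ o π Θ γ r T) {j : ι} (h : Hyp v Φ o j)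
    (h' : Hyp v Φ j o) {ψ : Dual F M} (hψ : ψ ∈ Φ j) (h0 : ψ (v o) = 0) : ψ = 0 := by
  by_contra hne
  obtain ⟨φ, hφ, ha⟩ := h
  obtain ⟨ψ', hψ', hb⟩ := h'
  obtain ⟨m1, hm1⟩ : ∃ m, ψ m ≠ 0 := by
    by_contra hcon
    push Not at hcon
    exact hne (LinearMap.ext hcon)
  have hex : ∀ c : F, ∃ w, ψ (π w) = c := by
    intro c
    obtain ⟨w, hw⟩ := D.pi_surj ((c / ψ m1) • m1)
    refine ⟨w, ?_⟩
    rw [hw, map_smul, smul_eq_mul, div_mul_cancel₀ _ hm1]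
  choose wc hwc using hex
  set g : F → F := fun c => Θ (wc c) (v j) with hg
  have hγ : ∀ c, γ j c = g c • ψ := by
    intro c
    have h1 := D.inv hψ h0 (wc c)
    rw [hwc] at h1
    exact h1
  have hsc : ∀ {a b : F}, a • ψ = b • ψ → a = b := fun {a b} h1 => smul_left_injective F hne h1
  have hgw : ∀ w, Θ w (v j) = g (ψ (π w)) := by
    intro w
    apply hsc
    rw [← D.inv hψ h0 w, hγ]
  -- `g ≠ 0`
  obtain ⟨c0, hc0⟩ : ∃ c, g c ≠ 0 := by
    obtain ⟨w, hw⟩ := D.Θ_surj φ hφ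
    refine ⟨ψ (π w), ?_⟩
    rw [← hgw, hw]
    exact ha
  -- `ρ`
  set ρ : F := φ (T (v j)) / φ (v j) with hρ
  have hψT : ∀ m, ψ (T m) = ρ * ψ m := by
    intro m
    have h1 := D.tor_b hψ h0 hφ m
    rw [hρ, div_mul_eq_mul_div, eq_div_iff ha, ← h1, mul_comm]
  have hρ0 : ρ ≠ 0 := by
    intro h1
    obtain ⟨m, hm⟩ := D.T_surj m1
    apply hm1
    rw [← hm, hψT, h1, zero_mul]
  have hgr : ∀ c, g (ρ * c) = r * ρ * g c := by
    intro c
    have h1 : ψ ((c / ψ m1) • m1) = c := by rw [map_smul, smul_eq_mul, div_mul_cancel₀ _ hm1]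
    have h2 := D.tor_γ hψ h0 ((c / ψ m1) • m1)
    rw [hψT, h1, hγ, hγ] at h2
    apply hsc
    rw [h2]
    ext m
    simp only [LinearMap.smul_apply, LinearMap.comp_apply, smul_eq_mul, hψT]
    ring
  -- `s ψ ∈ Φ j`
  have hs : ∀ s : F, s ≠ 0 → s • ψ ∈ Φ j → ∀ c, g (s * c) = s * g c := by
    intro s hs0 hs c
    have hs' : (s • ψ) (v o) = 0 := by rw [LinearMap.smul_apply, h0, smul_zero]
    have h1 := D.inv hs hs' (wc c)
    rw [LinearMap.smul_apply, hwc, smul_eq_mul, hγ, smul_smul] at h1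
    have h2 := hsc h1
    rw [h2, mul_comm]
  have hj0 : ψ (v j) = 0 := S.self hψ
  have e1 : φ (v j) • ψ ∈ Φ o := S.norm hψ h0 hφ
  have e2 : (φ (v j) * (r * ρ)) • ψ ∈ Φ o := by
    have h1 := D.tor e1
    have e : r • (φ (v j) • ψ) ∘ₗ T = (φ (v j) * (r * ρ)) • ψ := by
      ext m
      simp only [LinearMap.smul_apply, LinearMap.comp_apply, smul_eq_mul, hψT]
      ring
    rwa [e] at h1
  have e3 : ∀ s : F, s • ψ ∈ Φ o → (ψ' (v o) * s) • ψ ∈ Φ j := by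
    intro s hs
    have h1 := S.norm hs (by rw [LinearMap.smul_apply, hj0, smul_zero]) hψ'
    rwa [smul_smul] at h1
  have k1 := hs _ (mul_ne_zero hb ha) (e3 _ e1)
  have k2 := hs _ (mul_ne_zero hb (mul_ne_zero ha (mul_ne_zero D.r_ne hρ0))) (e3 _ e2)
  -- `g (r ρ c) = r ρ g c = g (ρ c)`
  have k3 : ∀ c, g (r * ρ * c) = g (ρ * c) := by
    intro c
    set s := ψ' (v o) * φ (v j) with hsdef
    have hs0 : s ≠ 0 := mul_ne_zero hb ha
    have h1 := k2 (s⁻¹ * c)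
    have e4 : ψ' (v o) * (φ (v j) * (r * ρ)) * (s⁻¹ * c) = r * ρ * c := by
      rw [← mul_assoc (ψ' (v o)), ← hsdef]
      field_simp
    rw [e4, ← mul_assoc (ψ' (v o)), ← hsdef] at h1
    have h2 := k1 (s⁻¹ * c)
    have e5 : s * (s⁻¹ * c) = c := mul_inv_cancel_left₀ hs0 c
    rw [e5] at h2
    rw [h1, hgr, h2]
    ring
  have gadd : ∀ a b, g (a + b) = g a + g b := by
    intro a b
    apply hsc
    rw [add_smul, ← hγ, ← hγ, ← hγ, D.γ_add]
  have g0 : g 0 = 0 := by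
    have h1 := gadd 0 0
    rw [add_zero] at h1
    exact (add_eq_left.1 h1.symm)
  apply hc0
  have hd : (r - 1) * ρ ≠ 0 := mul_ne_zero (sub_ne_zero.2 D.r_ne_one) hρ0
  have h1 := k3 (((r - 1) * ρ)⁻¹ * c0)
  set t := ((r - 1) * ρ)⁻¹ * c0 with ht
  have h2 : g (r * ρ * t) = g (ρ * t) + g ((r - 1) * ρ * t) := by
    rw [← gadd]
    congr 1
    ring
  rw [h2] at h1
  have h3 := add_eq_left.1 h1
  have h4 : (r - 1) * ρ * t = c0 := by rw [ht, mul_inv_cancel_left₀ hd]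
  rwa [h4] at h3

end Cfsg.Agent.Omega.NO3S.OneQ.TRp
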